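-- Team project OELM (S5990), packages [CNT1M] and [CNT2M] (helper52): the minus twins of
-- helper6's OELP [CNT1] / [CNT2].
import Mathlib
import Cfsg.Agent.Lib.Helper58.OElm.Defs
import Cfsg.Agent.Lib.Helper6.OElp.Cnt

set_option autoImplicit false
open scoped MatrixGroups
open Matrix

namespace Cfsg.Agent.Lib.Helper52.OElm

open Cfsg.Agent.Lib.Helper23.OHyp Cfsg.Agent.Lib.Helper44.OElp Cfsg.Agent.Lib.Helper64.OParM
  Cfsg.Agent.Lib.Helper58.OElm Cfsg.Agent.Lib.Helper6.OElp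

universe u

/-- an element with `J₀ = (2k+2) / c` blocks (the identity when `J₀ = 0`), provided
`(2k+2) % c ≠ 0` -/
theorem exists_max_blocks (hEx : PkgExistM.{u}) (F : Type u) [Field F] [Fintype F] (k r : ℕ)
    (a b : F) (hab : Aniso a b) (hr : r.Prime) (hr2 : r ≠ 2) (hrq : ¬ r ∣ Fintype.card F)
    (hmod : (2 * k + 2) % cc (Fintype.card F) r ≠ 0) :
    ∃ x : GL (MI k) F, x ∈ Cfsg.isometryGroup F (Cfsg.quadFormMinus k F a b) ∧ x ^ r = 1 ∧
      Module.finrank F (fixSp (x : Matrix (MI k) (MI k) F)) =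
        (2 * k + 2) % cc (Fintype.card F) r := by
  have hcpos : 0 < cc (Fintype.card F) r := cc_pos (ordI_pos hr hrq)
  have hcard : Fintype.card (MI k) = 2 * k + 2 := by simp [two_mul]
  have hmodn := Nat.div_add_mod (2 * k + 2) (cc (Fintype.card F) r)
  by_cases hcn : cc (Fintype.card F) r ≤ 2 * k + 2
  · have hJ1 : 1 ≤ (2 * k + 2) / cc (Fintype.card F) r := Nat.div_pos hcn hcpos
    obtain ⟨x, hxiso, hxord, hxfix⟩ := hEx F k r a b hab hr hr2 hrq _ hJ1 (Nat.mul_div_le _ _)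
      (by intro h; exfalso; omega)
    refine ⟨x, hxiso, ?_, ?_⟩
    · rw [← hxord]; exact pow_orderOf_eq_one x
    · omega
  · push Not at hcn
    have h1 : fixSp (((1 : GL (MI k) F)) : Matrix (MI k) (MI k) F) = ⊤ := by
      rw [Units.val_one]; exact fixSp_one
    refine ⟨1, one_mem _, one_pow r, ?_⟩
    rw [h1, finrank_top, Module.finrank_fintype_fun_eq_card, hcard, Nat.mod_eq_of_lt hcn]

/-- [CNT1M] -/
theorem pkgCnt1M_of (hMQ : PkgMinusQE.{u}) (hEx : PkgExistM.{u}) (hCong : PkgCongE.{u})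
    (hFix : PkgCntFixE.{u}) (hIn : PkgCntInE.{u}) : PkgCnt1M.{u} := by
  intro F _ _ k r a b hab hr hr2 hrq m hme hm2 hmc hmk hdvd
  have hQ := (hMQ F k a b hab).1
  have hcpos : 0 < cc (Fintype.card F) r := cc_pos (ordI_pos hr hrq)
  obtain ⟨x, hxiso, hxr, hxD⟩ := exists_max_blocks hEx F k r a b hab hr hr2 hrq (by omega)
  have hxlt : Module.finrank F (fixSp (x : Matrix (MI k) (MI k) F)) < cc (Fintype.card F) r := by
    rw [hxD]; exact Nat.mod_lt _ hcpos
  have hxm : m < Module.finrank F (fixSp (x : Matrix (MI k) (MI k) F)) := by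
    rw [hxD]; exact hmk
  have hS := cnt_stdE hQ hr hr2 hrq hxiso hxr
  have hcong := hCong F _ _ m r hr x hxiso hxr
  rw [cnt_card_inv_eq hFix hS hmc] at hcong
  have hnin := hIn F _ _ r _ hS m hme hm2 hxm hxlt
  have h0 : Nat.card (EllSp (Cfsg.quadFormMinus k F a b) m) % r = 0 := Nat.mod_eq_zero_of_dvd hdvd
  have h1 : Nat.card {W : EllSp (Cfsg.quadFormMinus k F a b) m //
      W.1 ≤ fixSp (x : Matrix (MI k) (MI k) F)} % r = 0 := by
    rw [← hcong]; exact h0
  exact hnin (Nat.dvd_of_mod_eq_zero h1)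

/-- [CNT2M] -/
theorem pkgCnt2M_of (hMQ : PkgMinusQE.{u}) (hEx : PkgExistM.{u}) (hCong : PkgCongE.{u})
    (hFix : PkgCntFixE.{u}) (hSplit : PkgSplitE.{u}) (hDiv : PkgDivE.{u}) (hSum : PkgSumE.{u}) :
    PkgCnt2M.{u} := by
  intro F _ _ k r a b hab hr hr2 hrq m hme hm2 hmc hmk hodd hdvd
  obtain ⟨hQ, hPtop⟩ := hMQ F k a b hab
  have hipos := ordI_pos hr hrq
  have hcpos : 0 < cc (Fintype.card F) r := cc_pos hipos
  have hcard : Fintype.card (MI k) = 2 * k + 2 := by simp [two_mul]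
  have hmodn := Nat.div_add_mod (2 * k + 2) (cc (Fintype.card F) r)
  obtain ⟨x, hxiso, hxr, hxD⟩ := exists_max_blocks hEx F k r a b hab hr hr2 hrq (by omega)
  have hS := cnt_stdE hQ hr hr2 hrq hxiso hxr
  have hD : Module.finrank F (fixSp (x : Matrix (MI k) (MI k) F)) = m := by
    rw [hxD, hmk]
  obtain ⟨hCnd, hNnd, hperp, hcompl, hNinv, -⟩ := hSplit F _ _ r _ hS
  have hdimN : Module.finrank F (movSp (x : Matrix (MI k) (MI k) F))
      = cc (Fintype.card F) r * ((2 * k + 2) / cc (Fintype.card F) r) := by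
    have h1 := Submodule.finrank_add_eq_of_isCompl hcompl
    rw [Module.finrank_fintype_fun_eq_card, hcard] at h1
    have h2 : Module.finrank F (fixSp (x : Matrix (MI k) (MI k) F)) +
        Module.finrank F (movSp (x : Matrix (MI k) (MI k) F)) = 2 * k + 2 := h1
    omega
  obtain ⟨-, -, hstype⟩ := hSum F _ _ hQ _ _ hCnd hNnd hperp
  rw [hcompl.sup_eq_top] at hstype
  have hCeven : Even (Module.finrank F (fixSp (x : Matrix (MI k) (MI k) F))) := by
    rw [hD]; exact hme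
  have hNeven : Even (Module.finrank F (movSp (x : Matrix (MI k) (MI k) F))) := by
    rw [hdimN]
    obtain ⟨c', hc'⟩ := cc_even (Fintype.card F) r
    rw [hc', mul_assoc]
    exact even_two_mul _
  have hiff := hstype hCeven hNeven
  obtain ⟨-, hNtype⟩ := hDiv F _ _ r _ hS _ le_rfl hNinv hNnd
  have hNplus : Plus (Cfsg.quadFormMinus k F a b) (movSp (x : Matrix (MI k) (MI k) F)) := by
    rw [hNtype]
    rcases Nat.even_or_odd (ordI (Fintype.card F) r) with hie | hio
    · right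
      have hci : cc (Fintype.card F) r = ordI (Fintype.card F) r := cc_eq_of_even hie
      rw [hdimN, hci, Nat.mul_div_cancel_left _ hipos]
      rcases hodd with h | h
      · exact absurd hie (Nat.not_even_iff_odd.mpr h)
      · exact h
    · exact Or.inl hio
  have hCnot : ¬ Plus (Cfsg.quadFormMinus k F a b) (fixSp (x : Matrix (MI k) (MI k) F)) :=
    fun h => hPtop (hiff.mpr ⟨fun _ => hNplus, fun _ => h⟩)
  have hone : Nat.card {W : EllSp (Cfsg.quadFormMinus k F a b) m //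
      Cfsg.Agent.Lib.Helper23.OHyp.Inv (x : Matrix (MI k) (MI k) F) W.1} = 1 := by
    rw [Nat.card_eq_one_iff_unique]
    constructor
    · constructor
      rintro ⟨⟨W, hW⟩, hWinv⟩ ⟨⟨W', hW'⟩, hW'inv⟩
      have h1 : W ≤ fixSp (x : Matrix (MI k) (MI k) F) :=
        hFix F _ _ r _ hS W hW.2.1 hWinv (by rw [hW.1]; exact hmc)
      have h2 : W' ≤ fixSp (x : Matrix (MI k) (MI k) F) :=
        hFix F _ _ r _ hS W' hW'.2.1 hW'inv (by rw [hW'.1]; exact hmc)
      have h3 : W = fixSp (x : Matrix (MI k) (MI k) F) :=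
        Submodule.eq_of_le_of_finrank_eq h1 (by rw [hW.1, hD])
      have h4 : W' = fixSp (x : Matrix (MI k) (MI k) F) :=
        Submodule.eq_of_le_of_finrank_eq h2 (by rw [hW'.1, hD])
      apply Subtype.ext
      apply Subtype.ext
      show W = W'
      rw [h3, h4]
    · exact ⟨⟨⟨fixSp (x : Matrix (MI k) (MI k) F), hD, hCnd, hCnot⟩,
        cnt_inv_of_le_fix le_rfl⟩⟩
  have hcong := hCong F _ _ m r hr x hxiso hxr
  rw [hone] at hcong
  have h0 : Nat.card (EllSp (Cfsg.quadFormMinus k F a b) m) % r = 0 := Nat.mod_eq_zero_of_dvd hdvd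
  have h1 : Nat.card (EllSp (Cfsg.quadFormMinus k F a b) m) % r = 1 % r := hcong
  rw [h0, Nat.mod_eq_of_lt hr.one_lt] at h1
  exact absurd h1 (by norm_num)

end Cfsg.Agent.Lib.Helper52.OElm
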